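import Groth.Prelude.Def_Fitting
import Groth.Prelude.Def_Coh
import Groth.Prelude.Def_CohB1
import Groth.Agent.FittRank.Basic
import Groth.Agent.FittMor.Basic
import Groth.Agent.QCohLib.FiniteType
import Groth.Agent.QCohLib.StalkLoc

/-!
# The Fitting ideal sheaves of a quasi-coherent module of finite type
-/

set_option autoImplicit false
set_option linter.style.haveILetI false
universe u

open CategoryTheory AlgebraicGeometry TopologicalSpace

namespace Groth.Agent.FittSheaf

variable {S : Scheme.{u}} (F : S.Modules)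

theorem finite_sections [F.IsQuasicoherent] (hft : CohB1.IsFT F) (U : S.affineOpens) :
    Module.Finite Γ(S, U.1) Γ(F, U.1) :=
  (Groth.Agent.QCohLib.isFiniteType_iff_affine F).1 hft U

/-- The Fitting ideals of the sections over affines glue. -/
noncomputable def fitt [F.IsQuasicoherent] (hft : CohB1.IsFT F) (n : ℕ) : S.IdealSheafData where
  ideal V := Fitt.ideal Γ(S, V.1) Γ(F, V.1) n
  map_ideal_basicOpen V a := by
    letI := Groth.Agent.QCohLib.resModule F (S.basicOpen_le a)
    haveI := Groth.Agent.QCohLib.resModule_tower F (f := a)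
    haveI := V.2.isLocalization_basicOpen a
    haveI := Groth.Agent.QCohLib.isLocalizedModule_res F V.2 a
    haveI := finite_sections F hft V
    haveI := finite_sections F hft (S.affineBasicOpen a)
    have hb := IsLocalizedModule.isBaseChange (Submonoid.powers a) Γ(S, S.basicOpen a)
      (Groth.Agent.QCohLib.resLinearMap F (S.basicOpen_le a))
    show Ideal.map (algebraMap Γ(S, V.1) Γ(S, S.basicOpen a)) (Fitt.ideal Γ(S, V.1) Γ(F, V.1) n) =
      Fitt.ideal Γ(S, S.basicOpen a) Γ(F, S.basicOpen a) n
    rw [← Groth.Agent.S6890.result (R := Γ(S, V.1)) (R' := Γ(S, S.basicOpen a)) Γ(F, V.1) n]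
    exact Groth.Agent.FittMor.ideal_congr hb.equiv n

/-- The Fitting ideal sheaf has the Fitting ideals as its values. -/
theorem sheafIdeal_ideal [F.IsQuasicoherent] (hft : CohB1.IsFT F) (n : ℕ) (U : S.affineOpens) :
    (Fitt.sheafIdeal F n).ideal U = Fitt.ideal Γ(S, U.1) Γ(F, U.1) n := by
  have e : Fitt.sheafIdeal F n = fitt F hft n := Scheme.IdealSheafData.ofIdeals_ideal (fitt F hft n)
  rw [e]; rfl

theorem mem_support_iff [F.IsQuasicoherent] (hft : CohB1.IsFT F) (n : ℕ) {U : S.Opens} (hU : IsAffineOpen U)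
    {s : S} (hs : s ∈ U) :
    s ∈ (Fitt.sheafIdeal F n).support ↔ Fitt.ideal Γ(S, U) Γ(F, U) n ≤ (hU.primeIdealOf ⟨s, hs⟩).asIdeal := by
  rw [Scheme.IdealSheafData.mem_support_iff_of_mem (U := ⟨U, hU⟩) hs, sheafIdeal_ideal F hft,
    Scheme.mem_zeroLocus_iff]
  constructor
  · intro h a ha
    by_contra hne
    exact h a ha ((Groth.Agent.QCohLib.mem_basicOpen_iff_notMem_primeIdealOf hU hs a).2 hne)
  · intro h a ha hmem
    exact (Groth.Agent.QCohLib.mem_basicOpen_iff_notMem_primeIdealOf hU hs a).1 hmem (h ha)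

theorem isFiniteTypeIdeal (hF : CohB1.IsFP F) (r : ℕ) (U : S.affineOpens) :
    ((Fitt.sheafIdeal F r).ideal U).FG := by
  haveI : F.IsFinitePresentation := hF
  haveI : F.IsQuasicoherent := inferInstance
  have hft : CohB1.IsFT F := inferInstanceAs F.IsFiniteType
  haveI := finite_sections F hft U
  rw [sheafIdeal_ideal F hft]
  exact (Groth.Agent.S6892.result (R := Γ(S, U.1)) Γ(F, U.1) Γ(F, U.1) r).2.1
    ((Groth.Agent.QCohLib.isFinitePresentation_iff_affine F).1 hF U)

theorem support_zero [F.IsQuasicoherent] (hft : CohB1.IsFT F) :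
    ((Fitt.sheafIdeal F 0).support : Set S) = CohB1.support F := by
  ext s
  obtain ⟨U, hU, hs, -⟩ := exists_isAffineOpen_mem_and_subset (x := s) (U := ⊤) (by trivial)
  haveI := finite_sections F hft ⟨U, hU⟩
  rw [SetLike.mem_coe, mem_support_iff F hft 0 hU hs, Groth.Agent.QCohLib.mem_support_iff_mem_moduleSupport hU s hs,
    Module.mem_support_iff_nontrivial_residueField_tensorProduct, ← not_iff_not,
    Groth.Agent.FittRank.not_le_iff_finrank_le, not_nontrivial_iff_subsingleton, Nat.le_zero]
  exact Module.finrank_zero_iff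

end Groth.Agent.FittSheaf
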