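import Mathlib
import Groth.Agent.UnitProd.SmoothReduced

/-!
# Differentials of algebraic elements of geometrically reduced algebras
-/

set_option autoImplicit false
universe u
open TensorProduct Polynomial

namespace Groth.Agent.FittConst

theorem D_eq_zero_of_isIntegral_of_perfect {K A : Type u} [Field K] [PerfectField K] [CommRing A] [Algebra K A]
    [IsReduced A] {a : A} (ha : IsIntegral K a) : KaehlerDifferential.D K A a = 0 := by
  have hsq : Squarefree (minpoly K a) := by
    intro r hr
    obtain ⟨t, ht⟩ := hr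
    have hne : minpoly K a ≠ 0 := minpoly.ne_zero ha
    have hz : (aeval a (r * t)) = 0 := by
      refine IsReduced.eq_zero _ ⟨2, ?_⟩
      have h1 := minpoly.aeval K a
      rw [ht] at h1
      calc aeval a (r * t) ^ 2 = aeval a (r * r * t) * aeval a t := by simp only [map_mul]; ring
        _ = 0 := by rw [h1, zero_mul]
    have hr0 : r ≠ 0 := fun h => hne (by rw [ht, h]; simp)
    have ht0 : t ≠ 0 := fun h => hne (by rw [ht, h]; simp)
    have hdeg := natDegree_le_of_dvd (minpoly.dvd K a hz) (mul_ne_zero hr0 ht0)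
    rw [ht, mul_assoc, natDegree_mul hr0 (mul_ne_zero hr0 ht0)] at hdeg
    exact isUnit_iff_degree_eq_zero.2 (by rw [degree_eq_natDegree hr0]; norm_cast; omega)
  obtain ⟨x, y, hxy⟩ := PerfectField.separable_iff_squarefree.2 hsq
  have h1 : (KaehlerDifferential.D K A) (aeval a (minpoly K a)) =
      aeval a (derivative (minpoly K a)) • KaehlerDifferential.D K A a :=
    Derivation.comp_aeval_eq a _ (minpoly K a)
  rw [minpoly.aeval, map_zero] at h1
  have h2 := congrArg (aeval a) hxy
  rw [map_add, map_mul, map_mul, minpoly.aeval, mul_zero, zero_add, map_one] at h2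
  rw [← one_smul A (KaehlerDifferential.D K A a), ← h2, mul_smul, ← h1, smul_zero]

theorem D_eq_zero_of_smooth {k A : Type u} [Field k] [CommRing A] [Algebra k A] [Algebra.Smooth k A]
    {a : A} (ha : IsIntegral k a) : KaehlerDifferential.D k A a = 0 := by
  let K := AlgebraicClosure k
  haveI : IsReduced (K ⊗[k] A) := UnitProd.isReduced_of_smooth (R := K) (K ⊗[k] A)
  letI := Algebra.TensorProduct.rightAlgebra (R := k) (A := K) (B := A)
  have hb : IsIntegral K ((1 : K) ⊗ₜ[k] a) := ha.tmul 1
  have h0 := D_eq_zero_of_isIntegral_of_perfect hb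
  have h1 : (KaehlerDifferential.tensorKaehlerEquivBase k K A (K ⊗[k] A)) (1 ⊗ₜ KaehlerDifferential.D k A a) = 0 := by
    rw [KaehlerDifferential.tensorKaehlerEquivBase_tmul, KaehlerDifferential.map_D, one_smul]
    exact h0
  refine mk_one_injective_of_field_aux ?_
  exact (LinearEquiv.map_eq_zero_iff _).1 h1
  where
  mk_one_injective_of_field_aux {x : Ω[A⁄k]} (h : (1 : AlgebraicClosure k) ⊗ₜ[k] x = 0) : x = 0 := by
    have hi : Function.Injective ((Algebra.linearMap k (AlgebraicClosure k)).rTensor Ω[A⁄k]) :=
      Module.Flat.rTensor_preserves_injective_linearMap _ (algebraMap k (AlgebraicClosure k)).injective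
    have := @hi ((1 : k) ⊗ₜ x) 0 (by simp [h])
    simpa using congrArg (TensorProduct.lid k Ω[A⁄k]) this

end Groth.Agent.FittConst
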