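import Mathlib
import Groth.Agent.FittRank.Basic
import Groth.Agent.RelGCILib.Jacobian

/-!
# Local embeddings into smooth algebras of relative dimension `p`
-/

set_option autoImplicit false
universe u
open TensorProduct MvPolynomial

namespace Groth.Agent.FittEmbed

variable {A B : Type u} [CommRing A] [CommRing B] [Algebra A B]

theorem exists_presentation [Algebra.FinitePresentation A B] (p : ℕ) :
    ∃ n, p ≤ n ∧ ∃ π : MvPolynomial (Fin n) A →ₐ[A] B, Function.Surjective π := by
  classical
  obtain ⟨m, g, hg⟩ := Algebra.FiniteType.iff_quotient_mvPolynomial''.1 (inferInstance : Algebra.FiniteType A B)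
  refine ⟨m + p, Nat.le_add_left _ _, aeval (Fin.append (fun i => g (X i)) 0), fun b => ?_⟩
  obtain ⟨f, rfl⟩ := hg b
  refine ⟨rename (Fin.castAdd p) f, ?_⟩
  rw [aeval_rename]
  refine AlgHom.congr_fun (φ₁ := aeval _) (algHom_ext fun i => ?_) f
  rw [aeval_X]
  simp

/-- If `Ω` needs at most `p` generators at `q`, a neighbourhood of `q` embeds into a standard smooth
algebra of relative dimension `p`. -/
theorem exists_smooth_surjection [Algebra.FinitePresentation A B] (p : ℕ) (q : Ideal B) [q.IsPrime]
    (hq : ¬ Fitt.ideal B (Ω[B⁄A]) p ≤ q) :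
    ∃ b : B, b ∉ q ∧ ∃ (C : Type u) (_ : CommRing C) (_ : Algebra A C),
      Algebra.IsStandardSmoothOfRelativeDimension p A C ∧
      ∃ φ : C →+* Localization.Away b, φ.comp (algebraMap A C) = algebraMap A (Localization.Away b) ∧
        Function.Surjective φ := by
  classical
  haveI : Module.Finite B (Ω[B⁄A]) := inferInstance
  obtain ⟨n, hpn, π, hπ⟩ := exists_presentation (A := A) (B := B) p
  rw [FittRank.not_le_iff_finrank_le] at hq
  let κ := q.ResidueField
  have hq' : Module.finrank κ (κ ⊗[B] Ω[B⁄A]) ≤ p := hq
  let ρ : MvPolynomial (Fin n) A →+* κ := (algebraMap B κ).comp π.toRingHom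
  let grad : MvPolynomial (Fin n) A → (Fin n → κ) := fun f j => ρ (pderiv j f)
  have grad_add : ∀ f g, grad (f + g) = grad f + grad g := fun f g => by
    funext j; simp [grad]
  have grad_C : ∀ a, grad (C a) = 0 := fun a => by
    funext j; simp [grad]
  have grad_mul : ∀ f g, grad (f * g) = ρ f • grad g + ρ g • grad f := fun f g => by
    funext j; simp [grad]
  let W : Submodule κ (Fin n → κ) := Submodule.span κ (grad '' {f | π f = 0})
  have hwd : ∀ f g, π f = π g → W.mkQ (grad f) = W.mkQ (grad g) := fun f g h => by
    rw [Submodule.mkQ_apply, Submodule.mkQ_apply, Submodule.Quotient.eq]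
    have h' := grad_add (f - g) g
    rw [sub_add_cancel] at h'
    rw [h', add_sub_cancel_right]
    exact Submodule.subset_span ⟨f - g, by simp [h], rfl⟩
  let s := Function.surjInv hπ
  have hs : ∀ b, π (s b) = b := Function.surjInv_eq hπ
  let D : Derivation A B ((Fin n → κ) ⧸ W) :=
    Derivation.mk'
      { toFun := fun b => W.mkQ (grad (s b))
        map_add' := fun a b => by
          rw [← map_add, ← grad_add]
          exact hwd _ _ (by rw [map_add, hs, hs, hs])
        map_smul' := fun a b => by
          show W.mkQ (grad (s (a • b))) = a • W.mkQ (grad (s b))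
          rw [← algebraMap_smul κ a (W.mkQ (grad (s b))), ← map_smul]
          have : algebraMap A κ a • grad (s b) = grad (C a * s b) := by
            rw [grad_mul, grad_C, smul_zero, add_zero]
            congr 1
            show _ = algebraMap B κ (π (C a))
            rw [show π (C a) = algebraMap A B a from π.commutes a, ← IsScalarTower.algebraMap_apply]
          rw [this]
          exact hwd _ _ (by rw [map_mul, hs, hs, Algebra.smul_def, show π (C a) = algebraMap A B a from π.commutes a]) }
      (fun a b => by
        show W.mkQ (grad (s (a * b))) = a • W.mkQ (grad (s b)) + b • W.mkQ (grad (s a))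
        rw [← algebraMap_smul κ a (W.mkQ (grad (s b))), ← algebraMap_smul κ b (W.mkQ (grad (s a))), ← map_smul,
          ← map_smul, ← map_add]
        have : algebraMap B κ a • grad (s b) + algebraMap B κ b • grad (s a) = grad (s a * s b) := by
          rw [grad_mul]
          show _ = algebraMap B κ (π (s a)) • _ + algebraMap B κ (π (s b)) • _
          rw [hs, hs]
        rw [this]
        exact hwd _ _ (by rw [map_mul, hs, hs, hs]))
  let L : κ ⊗[B] Ω[B⁄A] →ₗ[κ] ((Fin n → κ) ⧸ W) := D.liftKaehlerDifferential.liftBaseChange κ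
  have hL : Function.Surjective L := by
    intro y
    obtain ⟨v, rfl⟩ := W.mkQ_surjective y
    refine ⟨∑ j, v j • ((1 : κ) ⊗ₜ[B] KaehlerDifferential.D A B (π (X j))), ?_⟩
    rw [map_sum]
    have hv : v = ∑ j, v j • grad (X j) := by
      funext i
      simp [grad, pderiv_X, Pi.single_apply, apply_ite ρ]
    conv_rhs => rw [hv, map_sum]
    refine Finset.sum_congr rfl fun j _ => ?_
    rw [map_smul, map_smul, LinearMap.liftBaseChange_tmul, one_smul, Derivation.liftKaehlerDifferential_comp_D]
    congr 1
    exact hwd _ _ (hs _)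
  have hdim : n - p ≤ Module.finrank κ W := by
    have h1 := LinearMap.finrank_le_finrank_of_surjective hL
    have h2 := W.finrank_quotient_add_finrank
    rw [Module.finrank_fin_fun] at h2
    omega
  obtain ⟨b, hb, hbspan, hli⟩ := exists_linearIndependent κ (grad '' {f | π f = 0})
  haveI : Fintype b := (hli.setFinite).fintype
  have hcard : n - p ≤ Fintype.card b := by
    rwa [← Set.toFinset_card, ← finrank_span_set_eq_card hli, hbspan]
  obtain ⟨e⟩ : Nonempty (Fin (n - p) ↪ b) := Function.Embedding.nonempty_of_card_le (by simpa using hcard)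
  have hF : ∀ k, ∃ f, π f = 0 ∧ grad f = (e k : Fin n → κ) := fun k => hb (e k).2
  choose F hFπ hFg using hF
  obtain ⟨I, hI⟩ := (RelGCILib.exists_minor_iff fun i k => (e k : Fin n → κ) i).2 fun v hv => by
    refine funext fun k => Fintype.linearIndependent_iff.1 (hli.comp _ e.injective) v ?_ k
    funext i
    simpa using hv i
  let S := MvPolynomial (Fin n) A ⧸ Ideal.span (Set.range F)
  let P₀ : Algebra.PreSubmersivePresentation A S (Fin n) (Fin (n - p)) :=
    Algebra.PreSubmersivePresentation.naive (v := F) I I.injective
  let π' : S →ₐ[A] B := Ideal.Quotient.liftₐ _ π (fun z hz => by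
    refine (Ideal.span_le.2 ?_ : Ideal.span (Set.range F) ≤ RingHom.ker π) hz
    rintro _ ⟨i, rfl⟩
    exact hFπ i)
  have hπ' : Function.Surjective π' := Ideal.Quotient.lift_surjective_of_surjective _ _ hπ
  have hρ : algebraMap B κ (π' P₀.jacobian) ≠ 0 := by
    rw [Algebra.PreSubmersivePresentation.jacobian_eq_jacobiMatrix_det,
      show π' (algebraMap P₀.Ring S P₀.jacobiMatrix.det) = π P₀.jacobiMatrix.det from rfl]
    show ρ P₀.jacobiMatrix.det ≠ 0
    rw [RingHom.map_det, ← Matrix.det_transpose]
    have hM : (ρ.mapMatrix P₀.jacobiMatrix).transpose = Matrix.of fun k i => (e k : Fin n → κ) (I i) := by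
      refine Matrix.ext fun k i => ?_
      rw [Matrix.transpose_apply, RingHom.mapMatrix_apply, Matrix.map_apply,
        Algebra.PreSubmersivePresentation.jacobiMatrix_apply, Matrix.of_apply]
      show ρ (pderiv (I i) (F k)) = _
      exact congrFun (hFg k) (I i)
    rw [hM]
    exact hI
  refine ⟨π' P₀.jacobian, fun h => hρ (by
    rw [← RingHom.mem_ker, Ideal.ker_algebraMap_residueField]; exact h), ?_⟩
  let C := Localization.Away P₀.jacobian
  let Q := Algebra.PreSubmersivePresentation.localizationAway C P₀.jacobian
  let SP : Algebra.SubmersivePresentation A C (Unit ⊕ Fin n) (Unit ⊕ Fin (n - p)) :=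
    { Q.comp P₀ with
      jacobian_isUnit := by
        rw [Algebra.PreSubmersivePresentation.comp_jacobian_eq_jacobian_smul_jacobian,
          Algebra.smul_def, IsUnit.mul_iff]
        exact ⟨IsLocalization.map_units C (⟨P₀.jacobian, 1, by simp⟩ : Submonoid.powers P₀.jacobian),
          (Algebra.SubmersivePresentation.localizationAway C P₀.jacobian).jacobian_isUnit⟩ }
  refine ⟨C, inferInstance, inferInstance, SP.isStandardSmoothOfRelativeDimension ?_,
    Localization.awayMap π'.toRingHom P₀.jacobian, ?_, ?_⟩
  · show Nat.card (Unit ⊕ Fin n) - Nat.card (Unit ⊕ Fin (n - p)) = p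
    simp only [Nat.card_eq_fintype_card, Fintype.card_sum, Fintype.card_unit, Fintype.card_fin]
    omega
  · refine RingHom.ext fun a => ?_
    rw [RingHom.comp_apply, IsScalarTower.algebraMap_apply A S C]
    refine (IsLocalization.map_eq _ _).trans ?_
    show algebraMap B _ (π' (algebraMap A S a)) = _
    rw [π'.commutes, ← IsScalarTower.algebraMap_apply]
  · exact Localization.awayMap_surjective_iff.2 fun a => (hπ' a).imp fun c hc => ⟨0, by simpa using hc⟩

end Groth.Agent.FittEmbed
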