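import Groth.Prelude.Def_FlatMod2
import Groth.Agent.FittSheaf.Basic
import Groth.Agent.FittRank.Basic
import Groth.Agent.ProjTwist.LocTriv
import Groth.Agent.LocFreeAnn.Free
import Groth.Agent.FlatDescent.FibreFlat.Rank

/-!
# Fitting ideals and local generation by a given number of sections
-/

set_option autoImplicit false
set_option linter.style.haveILetI false
universe u

open CategoryTheory CategoryTheory.Limits AlgebraicGeometry Opposite TopologicalSpace TensorProduct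

namespace Groth.Agent.FittSheaf

variable {S : Scheme.{u}} (F : S.Modules)

theorem finrank_tensor_le {A L M : Type u} [CommRing A] [Field L] [Algebra A L] [AddCommGroup M] [Module A M]
    {r : ℕ} (g : Fin r → M) (hg : Submodule.span A (Set.range g) = ⊤) :
    Module.finrank L (L ⊗[A] M) ≤ r := by
  have h0 : Function.Surjective (Fintype.linearCombination A g) := by
    rw [← LinearMap.range_eq_top, Fintype.range_linearCombination]; exact hg
  have h1 : Function.Surjective (LinearMap.baseChange L (Fintype.linearCombination A g)) :=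
    LinearMap.lTensor_surjective L h0
  have h2 := LinearMap.finrank_range_le (LinearMap.baseChange L (Fintype.linearCombination A g))
  rw [LinearMap.range_eq_top.mpr h1, finrank_top,
    (TensorProduct.piScalarRight A L L (Fin r)).finrank_eq, Module.finrank_fin_fun] at h2
  exact h2

/-- A morphism from a free module given by sections over `U`. -/
noncomputable def homOfSections {r : ℕ} (U : S.Opens) (m : Fin r → Γ(F, U)) :
    FlatMod.freeMod (↑U) r ⟶ F.restrict U.ι :=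
  Sigma.desc fun i => ProjTwist.sectionHom F U (m i)

theorem exists_app_eq {r : ℕ} (U : S.Opens) (m : Fin r → Γ(F, U)) (V : (↑U : Scheme.{u}).Opens)
    (c : Fin r → Γ(S, U.ι ''ᵁ V)) :
    ∃ z : Γ(FlatMod.freeMod (↑U) r, V), (homOfSections F U m).app V z =
      (show Γ(F, U.ι ''ᵁ V) from ∑ i, c i • F.presheaf.map (homOfLE (U.ι_image_le V)).op (m i)) := by
  refine ⟨∑ i, (Sigma.ι (fun _ : Fin r => Coh.structureModule (↑U : Scheme.{u})) i).app V
    ((U.ι.appIso V).hom (c i)), (map_sum ((homOfSections F U m).app V).hom _ _).trans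
      (Finset.sum_congr rfl fun i _ => ?_)⟩
  have e : Sigma.ι (fun _ : Fin r => Coh.structureModule (↑U : Scheme.{u})) i ≫ homOfSections F U m =
      ProjTwist.sectionHom F U (m i) := Sigma.ι_desc _ _
  refine (LocFreeAnn.app_comp _ (homOfSections F U m) V _).symm.trans ?_
  rw [e]
  refine (ProjTwist.sectionHom_app F U (m i) V _).trans ?_
  exact congrArg (fun a : Γ(S, U.ι ''ᵁ V) => a • F.presheaf.map (homOfLE (U.ι_image_le V)).op (m i))
    ((U.ι.appIso V).hom_inv_id_apply (c i))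

theorem exists_epi_of_span [F.IsQuasicoherent] {U₀ : S.Opens} (hU₀ : IsAffineOpen U₀) {r : ℕ}
    (m : Fin r → Γ(F, U₀)) (f : Γ(S, U₀))
    (hm : ∀ x : Γ(F, U₀), f • x ∈ Submodule.span Γ(S, U₀) (Set.range m)) :
    ∃ π : FlatMod.freeMod (↑(S.basicOpen f)) r ⟶ F.restrict (S.basicOpen f).ι, Epi π := by
  refine ⟨homOfSections F (S.basicOpen f)
    (fun i => F.presheaf.map (homOfLE (S.basicOpen_le f)).op (m i)), ?_⟩
  rw [QCohLib.epi_iff_locally_surjective]
  intro V t x hx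
  have hxV : (S.basicOpen f).ι x ∈ (S.basicOpen f).ι ''ᵁ V := ⟨x, hx, rfl⟩
  have hxU : (S.basicOpen f).ι x ∈ U₀ :=
    S.basicOpen_le f ((S.basicOpen f).ι_image_le V hxV)
  obtain ⟨g, hgV, hxg⟩ := hU₀.exists_basicOpen_le ⟨_, hxV⟩ hxU
  obtain ⟨n, y, hy⟩ := QCohLib.exists_res_eq_pow_smul hU₀ g _ (S.basicOpen_le g) rfl
    (F.presheaf.map (homOfLE hgV).op t)
  let V' := V ⊓ (S.basicOpen f).ι ⁻¹ᵁ S.basicOpen g
  let W := (S.basicOpen f).ι ''ᵁ V'
  have hWV : W ≤ (S.basicOpen f).ι ''ᵁ V := Scheme.Hom.image_mono _ inf_le_left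
  have hWg : W ≤ S.basicOpen g := by rintro _ ⟨z, hz, rfl⟩; exact hz.2
  have hWf : W ≤ S.basicOpen f := (S.basicOpen f).ι_image_le V'
  have hW0 : W ≤ U₀ := hWf.trans (S.basicOpen_le f)
  obtain ⟨a, ha⟩ := (Submodule.mem_span_range_iff_exists_fun _).mp (hm y)
  have hf : IsUnit (S.presheaf.map (homOfLE hW0).op f) := by
    rw [show S.presheaf.map (homOfLE hW0).op = S.presheaf.map (homOfLE (S.basicOpen_le f)).op ≫
      S.presheaf.map (homOfLE hWf).op from by rw [← Functor.map_comp]; rfl]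
    exact (S.toRingedSpace.isUnit_res_basicOpen f).map (S.presheaf.map (homOfLE hWf).op).hom
  have hg : IsUnit (S.presheaf.map (homOfLE hW0).op g) := by
    rw [show S.presheaf.map (homOfLE hW0).op = S.presheaf.map (homOfLE (S.basicOpen_le g)).op ≫
      S.presheaf.map (homOfLE hWg).op from by rw [← Functor.map_comp]; rfl]
    exact (S.toRingedSpace.isUnit_res_basicOpen g).map (S.presheaf.map (homOfLE hWg).op).hom
  obtain ⟨w, hw⟩ := hf.mul (hg.pow n)
  have hyW : F.presheaf.map (homOfLE hW0).op y =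
      (S.presheaf.map (homOfLE hW0).op g) ^ n • F.presheaf.map (homOfLE hWV).op t := by
    have h := congrArg (F.presheaf.map (homOfLE hWg).op) hy
    rw [Scheme.Modules.map_smul, map_pow, ProjTwist.map_map, ProjTwist.map_map,
      ← ConcreteCategory.comp_apply, ← Functor.map_comp] at h
    exact h
  have hsum : S.presheaf.map (homOfLE hW0).op f • F.presheaf.map (homOfLE hW0).op y =
      ∑ i, S.presheaf.map (homOfLE hW0).op (a i) • F.presheaf.map (homOfLE hW0).op (m i) := by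
    rw [← Scheme.Modules.map_smul, ← ha, map_sum]
    exact Finset.sum_congr rfl fun i _ => Scheme.Modules.map_smul F _ _ _
  obtain ⟨z, hz⟩ := exists_app_eq F (S.basicOpen f)
    (fun i => F.presheaf.map (homOfLE (S.basicOpen_le f)).op (m i)) V'
    (fun i => (↑w⁻¹ : Γ(S, W)) * S.presheaf.map (homOfLE hW0).op (a i))
  refine ⟨V', inf_le_left, ⟨z, hz.trans ?_⟩, hx, hxg⟩
  refine Eq.trans ?_ (show F.presheaf.map (homOfLE hWV).op t =
    (F.restrict (S.basicOpen f).ι).presheaf.map (homOfLE inf_le_left).op t from rfl)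
  have hmm : ∀ i, F.presheaf.map (homOfLE hWf).op (F.presheaf.map (homOfLE (S.basicOpen_le f)).op (m i)) =
      F.presheaf.map (homOfLE hW0).op (m i) := fun i => ProjTwist.map_map F _ _ _
  simp only [hmm, mul_smul, ← Finset.smul_sum]
  rw [← hsum, hyW, smul_smul (S.presheaf.map (homOfLE hW0).op f), ← hw, smul_smul, Units.inv_mul, one_smul]

theorem exists_germ_eq {U U₀ : S.Opens} (hle : U₀ ≤ U) {r : ℕ} (π : FlatMod.freeMod (↑U) r ⟶ F.restrict U.ι)
    [Epi π] {s : S} (hs : s ∈ U₀) (x : Γ(F, U₀)) :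
    ∃ c : Fin r → S.presheaf.stalk s, F.presheaf.germ U₀ s hs x =
      ∑ i, c i • F.presheaf.germ U₀ s hs
        (F.presheaf.map (homOfLE (hle.trans U.ι_image_top.ge)).op (π.app ⊤ (LocFreeAnn.gen _ r i))) := by
  have h0 : U.ι ''ᵁ (U.ι ⁻¹ᵁ U₀) ≤ U₀ := by rintro _ ⟨z, hz, rfl⟩; exact hz
  obtain ⟨V, hV, ⟨z, hz⟩, hsV⟩ := (QCohLib.epi_iff_locally_surjective π).1 ‹_› (U.ι ⁻¹ᵁ U₀)
    (show Γ(F, U.ι ''ᵁ (U.ι ⁻¹ᵁ U₀)) from F.presheaf.map (homOfLE h0).op x) ⟨s, hle hs⟩ hs
  have hsW : s ∈ U.ι ''ᵁ V := ⟨⟨s, hle hs⟩, hsV, rfl⟩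
  have hW : U.ι ''ᵁ V ≤ U₀ := (Scheme.Hom.image_mono _ hV).trans h0
  have hsm : ∀ (a : Γ((↑U : Scheme.{u}), V)) (v : Γ(F.restrict U.ι, V)),
      (F.restrictAppIso U.ι V).hom (a • v) =
        (U.ι.appIso V).inv a • (F.restrictAppIso U.ι V).hom v :=
    fun a v => Scheme.Modules.smul_restrictAppIso_hom_apply U.ι F V a v
  refine ⟨fun i => S.presheaf.germ (U.ι ''ᵁ V) s hsW
    ((U.ι.appIso V).inv (LocFreeAnn.coord V z i)), ?_⟩
  have e := congrArg (F.presheaf.germ (U.ι ''ᵁ V) s hsW)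
    ((congrArg (F.restrictAppIso U.ι V).hom (LocFreeAnn.free_app_eq π V z)).symm.trans
      (congrArg (F.restrictAppIso U.ι V).hom hz))
  rw [map_sum, map_sum] at e
  have hx : F.presheaf.germ U₀ s hs x = F.presheaf.germ (U.ι ''ᵁ V) s hsW
      ((F.restrictAppIso U.ι V).hom ((F.restrict U.ι).presheaf.map (homOfLE hV).op
        (show Γ(F, U.ι ''ᵁ (U.ι ⁻¹ᵁ U₀)) from F.presheaf.map (homOfLE h0).op x))) := by
    refine Eq.symm ((TopCat.Presheaf.germ_res_apply F.presheaf
      (homOfLE (Scheme.Hom.image_mono _ hV)) s hsW _).trans ?_)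
    exact TopCat.Presheaf.germ_res_apply F.presheaf (homOfLE h0) s _ x
  rw [hx, ← e]
  refine Finset.sum_congr rfl fun i _ => ?_
  rw [hsm, QCohLib.germ_smul]
  refine congrArg (_ • ·) ?_
  refine Eq.trans ?_ (TopCat.Presheaf.germ_res_apply F.presheaf (homOfLE hW) s hsW _)
  refine congrArg (F.presheaf.germ (U.ι ''ᵁ V) s hsW) ?_
  exact (ProjTwist.map_map F hW (hle.trans U.ι_image_top.ge) _).symm

theorem generated_by_le_iff [F.IsQuasicoherent] (hft : CohB1.IsFT F) (s : S) (r : ℕ) :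
    (∃ U : S.Opens, s ∈ U ∧ ∃ π : FlatMod.freeMod (↑U) r ⟶ F.restrict U.ι, Epi π) ↔
      s ∉ (Fitt.sheafIdeal F r).support := by
  constructor
  · rintro ⟨U, hs, π, hπ⟩
    obtain ⟨U₀, hU₀, hs₀, hle⟩ := exists_isAffineOpen_mem_and_subset (x := s) (U := U) hs
    haveI := finite_sections F hft ⟨U₀, hU₀⟩
    rw [mem_support_iff F hft r hU₀ hs₀, FittRank.not_le_iff_finrank_le,
      ← FlatDescent.FibreFlat.rk_chart F hU₀ hs₀]
    refine finrank_tensor_le (fun i => F.presheaf.germ U₀ s hs₀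
      (F.presheaf.map (homOfLE (le_trans (show U₀ ≤ U from hle) U.ι_image_top.ge)).op
        (π.app ⊤ (LocFreeAnn.gen _ r i)))) (eq_top_iff.mpr fun m _ => ?_)
    obtain ⟨f, x, hsf, hfx⟩ := QCohLib.exists_smul_eq_germ hU₀ s hs₀ m
    obtain ⟨c, hc⟩ := exists_germ_eq F hle π hs₀ x
    obtain ⟨v, hv⟩ := (S.mem_basicOpen f s hs₀).mp hsf
    refine (Submodule.mem_span_range_iff_exists_fun _).mpr ⟨fun i => ↑v⁻¹ * c i, ?_⟩
    simp only [mul_smul, ← Finset.smul_sum]
    rw [← hc, ← hfx, smul_smul, ← hv, Units.inv_mul, one_smul]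
  · intro h
    obtain ⟨U₀, hU₀, hs₀, -⟩ := exists_isAffineOpen_mem_and_subset (x := s) (U := ⊤) (by trivial)
    haveI := finite_sections F hft ⟨U₀, hU₀⟩
    rw [mem_support_iff F hft r hU₀ hs₀, FittRank.not_le_iff_finrank_le] at h
    obtain ⟨m, f, hf, hm⟩ := FittRank.exists_span_of_finrank_le _ r h
    exact ⟨S.basicOpen f, (QCohLib.mem_basicOpen_iff_notMem_primeIdealOf hU₀ hs₀ f).2 hf,
      exists_epi_of_span F hU₀ m f hm⟩

end Groth.Agent.FittSheaf
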