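import Groth.Agent.FittSheaf.Omega
import Groth.Agent.FittSheaf.Generated
import Groth.Agent.FittSheaf.Embed

/-!
# The Jacobian loci and local embeddings into smooth schemes
-/

set_option autoImplicit false
universe u

open CategoryTheory Limits AlgebraicGeometry TopologicalSpace Opposite
open scoped TensorProduct

namespace Groth.Agent.FittSheaf

variable {X Y : Scheme.{u}} (f : X ⟶ Y) [LocallyOfFinitePresentation f] [QuasiSeparated f] (p : ℕ)

theorem mem_support_omega_iff' {U : X.Opens} {V : Y.Opens} (hU : IsAffineOpen U) (hV : IsAffineOpen V)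
    (h : U ≤ f ⁻¹ᵁ V) {x : X} (hx : x ∈ U) :
    letI := (f.appLE V U h).hom.toAlgebra
    x ∈ (Fitt.sheafIdeal (Omega.sheaf f) p).support ↔
      Fitt.ideal Γ(X, U) (Ω[Γ(X, U)⁄Γ(Y, V)]) p ≤ (hU.primeIdealOf ⟨x, hx⟩).asIdeal := by
  letI := (f.appLE V U h).hom.toAlgebra
  haveI := ConormalSection.omega_isQuasicoherent f
  haveI := finite_omega f hU hV h
  obtain ⟨e⟩ := exists_omega_equiv f hU hV h
  haveI : Module.Finite Γ(X, U) (Ω[Γ(X, U)⁄Γ(Y, V)]) := Module.Finite.equiv e.symm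
  rw [mem_support_iff (Omega.sheaf f) (isFiniteType_omega f) p hU hx, FittMor.ideal_congr e p]

theorem exists_embedding (x : X) (hx : x ∉ (Fitt.sheafIdeal (Omega.sheaf f) p).support) :
    ∃ (U : X.Opens) (U' : Scheme.{u}) (i : (U : Scheme.{u}) ⟶ U') (g : U' ⟶ Y),
      x ∈ U ∧ IsClosedImmersion i ∧ SmoothOfRelativeDimension p g ∧ i ≫ g = U.ι ≫ f := by
  obtain ⟨⟨V, hV⟩, ⟨U₀, hU₀⟩, hxU, h⟩ := exists_affine_pair f x
  letI := (f.appLE V U₀ h).hom.toAlgebra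
  haveI : Algebra.FinitePresentation Γ(Y, V) Γ(X, U₀) := f.finitePresentation_appLE hV hU₀ h
  rw [mem_support_omega_iff' f p hU₀ hV h hxU] at hx
  obtain ⟨b, hb, C, _, _, hC, φ, hφ, hφs⟩ := FittEmbed.exists_smooth_surjection (A := Γ(Y, V)) p _ hx
  have hW : IsAffineOpen (X.basicOpen b) := hU₀.basicOpen b
  have hWV : X.basicOpen b ≤ f ⁻¹ᵁ V := (X.basicOpen_le b).trans h
  haveI := hU₀.isLocalization_basicOpen b
  let e : Localization.Away b ≃ₐ[Γ(X, U₀)] Γ(X, X.basicOpen b) := IsLocalization.algEquiv (Submonoid.powers b) _ _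
  let ψ : CommRingCat.of C ⟶ Γ(X, X.basicOpen b) := CommRingCat.ofHom (e.toRingHom.comp φ)
  have hψ : CommRingCat.ofHom (algebraMap Γ(Y, V) C) ≫ ψ = f.appLE V (X.basicOpen b) hWV := by
    rw [← f.appLE_map h (homOfLE (X.basicOpen_le b)).op]
    refine CommRingCat.hom_ext (RingHom.ext fun a => ?_)
    show e (φ (algebraMap Γ(Y, V) C a)) = algebraMap Γ(X, U₀) Γ(X, X.basicOpen b) (algebraMap Γ(Y, V) Γ(X, U₀) a)
    rw [← RingHom.comp_apply, hφ, IsScalarTower.algebraMap_apply Γ(Y, V) Γ(X, U₀) (Localization.Away b),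
      AlgEquiv.commutes]
  haveI : IsClosedImmersion (Spec.map ψ) := IsClosedImmersion.spec_of_surjective ψ
    (e.surjective.comp hφs)
  haveI : SmoothOfRelativeDimension p (Spec.map (CommRingCat.ofHom (algebraMap Γ(Y, V) C))) := by
    refine (HasRingHomProperty.Spec_iff (P := @SmoothOfRelativeDimension p)).2 ?_
    exact RingHom.locally_of RingHom.isStandardSmoothOfRelativeDimension_respectsIso _
      ((RingHom.isStandardSmoothOfRelativeDimension_algebraMap p).2 hC)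
  refine ⟨X.basicOpen b, Spec (CommRingCat.of C), hW.isoSpec.hom ≫ Spec.map ψ,
    Spec.map (CommRingCat.ofHom (algebraMap Γ(Y, V) C)) ≫ hV.fromSpec,
    (QCohLib.mem_basicOpen_iff_notMem_primeIdealOf hU₀ hxU b).2 hb, inferInstance,
    inferInstanceAs (SmoothOfRelativeDimension (p + 0) _), ?_⟩
  rw [Category.assoc, ← Spec.map_comp_assoc, hψ, IsAffineOpen.SpecMap_appLE_fromSpec f hV hW hWV,
    IsAffineOpen.isoSpec_hom, ← Category.assoc, hW.toSpecΓ_fromSpec]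

theorem notMem_support_of_embedding (x : X) {U : X.Opens} {U' : Scheme.{u}} (i : (U : Scheme.{u}) ⟶ U')
    (g : U' ⟶ Y) (hxU : x ∈ U) [IsClosedImmersion i] [SmoothOfRelativeDimension p g] (heq : i ≫ g = U.ι ≫ f) :
    x ∉ (Fitt.sheafIdeal (Omega.sheaf f) p).support := by
  obtain ⟨V, hV, W, hW, hxW, e, hstd⟩ :=
    SmoothOfRelativeDimension.exists_isStandardSmoothOfRelativeDimension (n := p) (f := g) (i ⟨x, hxU⟩)
  let U₀ : (U : Scheme.{u}).Opens := i ⁻¹ᵁ W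
  have hU₀ : IsAffineOpen U₀ := hW.preimage i
  have hU₁ : IsAffineOpen (U.ι ''ᵁ U₀) := hU₀.image_of_isOpenImmersion U.ι
  have e₀ : U₀ ≤ (i ≫ g) ⁻¹ᵁ V := fun z hz => e hz
  have h₁ : U.ι ''ᵁ U₀ ≤ f ⁻¹ᵁ V := by
    rintro _ ⟨z, hz, rfl⟩
    have := e₀ hz
    rw [heq] at this
    exact this
  have hx₁ : x ∈ U.ι ''ᵁ U₀ := ⟨⟨x, hxU⟩, hxW, rfl⟩
  rw [mem_support_omega_iff' f p hU₁ hV h₁ hx₁]
  letI := (g.appLE V W e).hom.toAlgebra
  haveI hC : Algebra.IsStandardSmoothOfRelativeDimension p Γ(Y, V) Γ(U', W) := hstd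
  letI := (f.appLE V (U.ι ''ᵁ U₀) h₁).hom.toAlgebra
  let φ : Γ(U', W) →+* Γ(X, U.ι ''ᵁ U₀) := (i.app W ≫ (U.ι.appIso U₀).inv).hom
  have hφs : Function.Surjective φ :=
    (U.ι.appIso U₀).commRingCatIsoToRingEquiv.symm.surjective.comp
      (i.app_surjective W hW)
  have hφc : ∀ a, φ (algebraMap Γ(Y, V) Γ(U', W) a) = algebraMap Γ(Y, V) Γ(X, U.ι ''ᵁ U₀) a := by
    intro a
    have hc : g.appLE V W e ≫ i.app W ≫ (U.ι.appIso U₀).inv = f.appLE V (U.ι ''ᵁ U₀) h₁ := by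
      rw [← Category.assoc, Iso.comp_inv_eq, Scheme.Hom.app_eq_appLE, Scheme.Hom.appLE_comp_appLE,
        Scheme.Hom.appIso_hom', Scheme.Hom.appLE_comp_appLE]
      congr 1
    exact congrArg (fun t : Γ(Y, V) ⟶ Γ(X, U.ι ''ᵁ U₀) => t a) hc
  letI := φ.toAlgebra
  haveI : IsScalarTower Γ(Y, V) Γ(U', W) Γ(X, U.ι ''ᵁ U₀) :=
    IsScalarTower.of_algebraMap_eq fun a => (hφc a).symm
  haveI : Module.Finite Γ(X, U.ι ''ᵁ U₀) (Ω[Γ(X, U.ι ''ᵁ U₀)⁄Γ(Y, V)]) := by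
    haveI := finite_omega f hU₁ hV h₁
    obtain ⟨e'⟩ := exists_omega_equiv f hU₁ hV h₁
    exact Module.Finite.equiv e'.symm
  rw [FittRank.not_le_iff_finrank_le]
  haveI : Algebra.IsStandardSmooth Γ(Y, V) Γ(U', W) := Algebra.IsStandardSmoothOfRelativeDimension.isStandardSmooth p
  haveI : Nonempty W := ⟨⟨_, hxW⟩⟩
  haveI : Nontrivial Γ(U', W) := Scheme.component_nontrivial U' W
  let B := Γ(X, U.ι ''ᵁ U₀)
  let κ := (hU₁.primeIdealOf ⟨x, hx₁⟩).asIdeal.ResidueField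
  obtain ⟨bas⟩ : Nonempty (Module.Basis (Fin p) Γ(U', W) (Ω[Γ(U', W)⁄Γ(Y, V)])) := by
    haveI := Algebra.IsStandardSmooth.free_kaehlerDifferential (R := Γ(Y, V)) (S := Γ(U', W))
    haveI : Module.Finite Γ(U', W) (Ω[Γ(U', W)⁄Γ(Y, V)]) := inferInstance
    exact ⟨Module.finBasisOfFinrankEq _ _ (Module.finrank_eq_of_rank_eq
      (Algebra.IsStandardSmoothOfRelativeDimension.rank_kaehlerDifferential p))⟩
  refine finrank_tensor_le (fun j => KaehlerDifferential.map Γ(Y, V) Γ(Y, V) Γ(U', W) B (bas j)) ?_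
  have hs := KaehlerDifferential.map_surjective_of_surjective Γ(Y, V) Γ(Y, V) Γ(U', W) B hφs
  refine eq_top_iff.2 fun y _ => ?_
  obtain ⟨z, rfl⟩ := hs y
  rw [← bas.sum_repr z, map_sum]
  refine Submodule.sum_mem _ fun j _ => ?_
  rw [map_smul, ← algebraMap_smul B]
  exact Submodule.smul_mem _ _ (Submodule.subset_span ⟨j, rfl⟩)

end Groth.Agent.FittSheaf
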