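import Mathlib
import Groth.Agent.PP16Lib.JacobianSplit
import Groth.Agent.FittRank.Basic
import Groth.Prelude.Def_CAlgX

/-!
# Smooth points of complete intersections and Fitting ideals of differentials
-/

set_option autoImplicit false
universe u
open TensorProduct

namespace Groth.Agent.FittLci

variable {A B C : Type u} [CommRing A] [CommRing B] [CommRing C] [Algebra A B] [Algebra B C] [Algebra A C]
  [IsScalarTower A B C]

theorem c_le_finrank {c : ℕ} (hsurj : Function.Surjective (algebraMap B C)) (r : Fin c → B)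
    (hker : RingHom.ker (algebraMap B C) = Ideal.span (Set.range r)) (hq : CAlgX.IsQuasiRegular r)
    (κ : Type u) [Field κ] [Algebra B κ] [Algebra C κ] [IsScalarTower B C κ]
    [Module.Finite κ (κ ⊗[B] (RingHom.ker (algebraMap B C)).Cotangent)] :
    c ≤ Module.finrank κ (κ ⊗[B] (RingHom.ker (algebraMap B C)).Cotangent) := by
  classical
  let J := RingHom.ker (algebraMap B C)
  have hr : ∀ i, r i ∈ J := fun i => by rw [show J = _ from hker]; exact Ideal.subset_span ⟨i, rfl⟩
  let g : (Fin c → B) →ₗ[B] J.Cotangent := Fintype.linearCombination B fun i => J.toCotangent ⟨r i, hr i⟩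
  let x : Fin c → J := fun i => ⟨r i, hr i⟩
  have hg : Function.Surjective g := by
    intro z
    obtain ⟨⟨y, hy⟩, rfl⟩ := J.toCotangent_surjective z
    have hy' : y ∈ Ideal.span (Set.range r) := hker ▸ hy
    obtain ⟨a, ha⟩ := Ideal.mem_span_range_iff_exists_fun.1 hy'
    refine ⟨a, ?_⟩
    simp only [g, Fintype.linearCombination_apply, ← map_smul, ← map_sum]
    exact congrArg J.toCotangent (Subtype.ext (by simp [← ha]))
  let q : (Fin c → B) →ₗ[B] (Fin c → κ) := LinearMap.pi fun i => (Algebra.linearMap B κ).comp (LinearMap.proj i)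
  have hgq : LinearMap.ker g ≤ LinearMap.ker q := by
    intro a ha
    rw [LinearMap.mem_ker] at ha ⊢
    simp only [g, Fintype.linearCombination_apply, ← map_smul, ← map_sum, Ideal.toCotangent_eq_zero] at ha
    funext i
    have := hq 1 (∑ j, MvPolynomial.C (a j) * MvPolynomial.X j)
      (MvPolynomial.IsHomogeneous.sum _ _ _ fun j _ => (MvPolynomial.isHomogeneous_X B j).C_mul (a j))
      (by rw [← hker]; simpa [map_sum] using ha) (Finsupp.single i 1)
    have hc : MvPolynomial.coeff (Finsupp.single i 1) (∑ j, MvPolynomial.C (a j) * MvPolynomial.X j) = a i := by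
      simp [MvPolynomial.coeff_sum, MvPolynomial.coeff_C_mul, MvPolynomial.coeff_X', Finsupp.single_left_inj]
    rw [hc, ← hker, RingHom.mem_ker] at this
    show algebraMap B κ (a i) = 0
    rw [IsScalarTower.algebraMap_apply B C κ, this, map_zero]
  let h : J.Cotangent →ₗ[B] (Fin c → κ) :=
    ((LinearMap.ker g).liftQ q hgq).comp (g.quotKerEquivOfSurjective hg).symm.toLinearMap
  have hh : ∀ a, h (g a) = q a := fun a => by
    have e : (g.quotKerEquivOfSurjective hg).symm (g a) = Submodule.Quotient.mk a := by
      rw [LinearEquiv.symm_apply_eq]; rfl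
    show (LinearMap.ker g).liftQ q hgq ((g.quotKerEquivOfSurjective hg).symm (g a)) = q a
    rw [e]; rfl
  have hs : Function.Surjective (h.liftBaseChange κ) := by
    intro v
    refine ⟨∑ i, v i • ((1 : κ) ⊗ₜ g (Pi.single i 1)), ?_⟩
    funext j
    simp [map_sum, hh, q, Finset.sum_apply, Pi.single_apply, apply_ite (algebraMap B κ)]
  simpa using LinearMap.finrank_le_finrank_of_surjective hs

theorem finrank_add_le_iff {c n : ℕ} [Nontrivial B] (bas : Module.Basis (Fin n) B (Ω[B⁄A]))
    (hsurj : Function.Surjective (algebraMap B C)) (r : Fin c → B)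
    (hker : RingHom.ker (algebraMap B C) = Ideal.span (Set.range r)) (hq : CAlgX.IsQuasiRegular r)
    (p : Ideal C) [p.IsPrime] :
    Module.finrank p.ResidueField (p.ResidueField ⊗[C] Ω[C⁄A]) + c ≤ n ↔
      Function.Injective ((KaehlerDifferential.kerCotangentToTensor A B C).lTensor p.ResidueField) := by
  classical
  let κ := p.ResidueField
  let J := RingHom.ker (algebraMap B C)
  let uu := KaehlerDifferential.kerCotangentToTensor A B C
  let β : C ⊗[B] Ω[B⁄A] →ₗ[B] Ω[C⁄A] := (KaehlerDifferential.mapBaseChange A B C).restrictScalars B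
  let L1 := uu.baseChange κ
  let L2 := β.baseChange κ
  have hL2 : Function.Surjective L2 := by
    show Function.Surjective (β.lTensor κ)
    exact LinearMap.lTensor_surjective κ (KaehlerDifferential.mapBaseChange_surjective A B C hsurj)
  have hex : Function.Exact L1 L2 :=
    lTensor_exact κ (KaehlerDifferential.exact_kerCotangentToTensor_mapBaseChange A B C hsurj)
      (KaehlerDifferential.mapBaseChange_surjective A B C hsurj)
  haveI : Module.Finite B J.Cotangent := by
    haveI : Module.Finite B J := Module.Finite.iff_fg.2 (by rw [show J = _ from hker]; exact ⟨(Finset.univ.image r), by simp⟩)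
    exact Module.Finite.of_surjective J.toCotangent J.toCotangent_surjective
  have hdom : Module.finrank κ (κ ⊗[B] J.Cotangent) = c := by
    refine le_antisymm ?_ (c_le_finrank hsurj r hker hq κ)
    have hr : ∀ i, r i ∈ J := fun i => by rw [show J = _ from hker]; exact Ideal.subset_span ⟨i, rfl⟩
    let t : Fin c → κ ⊗[B] J.Cotangent := fun i => 1 ⊗ₜ J.toCotangent ⟨r i, hr i⟩
    have ht : Submodule.span κ (Set.range t) = ⊤ := by
      refine eq_top_iff.2 fun z hz => ?_
      clear hz
      induction z using TensorProduct.induction_on with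
      | zero => exact zero_mem _
      | add a b ha hb => exact add_mem ha hb
      | tmul a y =>
        obtain ⟨⟨y, hy⟩, rfl⟩ := J.toCotangent_surjective y
        obtain ⟨e, he⟩ := Ideal.mem_span_range_iff_exists_fun.1 (show y ∈ Ideal.span (Set.range r) from hker ▸ hy)
        rw [show (⟨y, hy⟩ : J) = ∑ i, e i • (⟨r i, hr i⟩ : J) from Subtype.ext (by simp [← he]),
          map_sum, TensorProduct.tmul_sum]
        refine Submodule.sum_mem _ fun i _ => ?_
        rw [map_smul, ← TensorProduct.smul_tmul, ← mul_one (e i • a), ← smul_eq_mul, ← TensorProduct.smul_tmul']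
        exact Submodule.smul_mem _ _ (Submodule.subset_span ⟨i, rfl⟩)
    rw [← finrank_top κ, ← ht]
    exact (finrank_range_le_card t).trans_eq (Fintype.card_fin c)
  haveI : Module.Finite B (Ω[B⁄A]) := Module.Finite.of_basis bas
  haveI : Module.Finite B C := Module.Finite.of_surjective (Algebra.linearMap B C) hsurj
  have hmid : Module.finrank κ (κ ⊗[B] (C ⊗[B] Ω[B⁄A])) = n := by
    let θ : C ⊗[B] Ω[B⁄A] →ₗ[B] κ ⊗[B] Ω[B⁄A] := (IsScalarTower.toAlgHom B C κ).toLinearMap.rTensor _
    refine le_antisymm ?_ ?_
    · let e : κ ⊗[B] Ω[B⁄A] →ₗ[κ] κ ⊗[B] (C ⊗[B] Ω[B⁄A]) := (TensorProduct.mk B C (Ω[B⁄A]) 1).baseChange κ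
      have he : Function.Surjective e := by
        refine LinearMap.lTensor_surjective κ fun z => ?_
        induction z using TensorProduct.induction_on with
        | zero => exact ⟨0, map_zero _⟩
        | add a b ha hb =>
          obtain ⟨a', ha'⟩ := ha; obtain ⟨b', hb'⟩ := hb
          exact ⟨a' + b', by rw [map_add, ha', hb']⟩
        | tmul a w =>
          obtain ⟨b, rfl⟩ := hsurj a
          exact ⟨b • w, by simp [Algebra.algebraMap_eq_smul_one, TensorProduct.smul_tmul']⟩
      refine (LinearMap.finrank_le_finrank_of_surjective he).trans_eq ?_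
      rw [Module.finrank_eq_card_basis (bas.baseChange κ), Fintype.card_fin]
    · have hθ : Function.Surjective (θ.liftBaseChange κ) := by
        intro z
        induction z using TensorProduct.induction_on with
        | zero => exact ⟨0, map_zero _⟩
        | add a b ha hb =>
          obtain ⟨a', ha'⟩ := ha; obtain ⟨b', hb'⟩ := hb
          exact ⟨a' + b', by rw [map_add, ha', hb']⟩
        | tmul a w => exact ⟨a ⊗ₜ ((1 : C) ⊗ₜ w), by simp [θ, TensorProduct.smul_tmul']⟩
      refine le_of_eq_of_le ?_ (LinearMap.finrank_le_finrank_of_surjective hθ)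
      rw [Module.finrank_eq_card_basis (bas.baseChange κ), Fintype.card_fin]
  haveI : TensorProduct.CompatibleSMul B C κ (Ω[C⁄A]) := ⟨fun s a w => by
    obtain ⟨b, rfl⟩ := hsurj s
    rw [algebraMap_smul, algebraMap_smul, TensorProduct.smul_tmul]⟩
  let qe : κ ⊗[C] Ω[C⁄A] ≃ₗ[κ] κ ⊗[B] Ω[C⁄A] :=
    { (TensorProduct.equivOfCompatibleSMul C B B κ (Ω[C⁄A])).symm.toAddEquiv with
      map_smul' := fun a z => by
        induction z using TensorProduct.induction_on with
        | zero => simp
        | add x y hx hy => simp_all [smul_add]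
        | tmul x w => rfl }
  have h1 := L2.finrank_range_add_finrank_ker
  rw [LinearMap.range_eq_top.2 hL2, finrank_top, LinearMap.exact_iff.1 hex, hmid, ← qe.finrank_eq] at h1
  have h2 := L1.finrank_range_add_finrank_ker
  rw [hdom] at h2
  show _ ↔ Function.Injective L1
  rw [← LinearMap.ker_eq_bot, ← Submodule.finrank_eq_zero,
    show Module.finrank p.ResidueField (p.ResidueField ⊗[C] Ω[C⁄A]) = Module.finrank κ (κ ⊗[C] Ω[C⁄A]) from rfl]
  simp only [κ] at h1 h2 ⊢
  omega

end Groth.Agent.FittLci
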