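import Groth.Agent.FittSheaf.EmbedScheme
import Groth.Agent.FittSheaf.LciAlg
import Groth.Agent.FibrewiseCrit.Pointwise
import Groth.Agent.RegSeq.Comp
import Groth.Agent.RegSeq.Imm
import Groth.Prelude.Def_RegImm

/-!
# Smooth points of a local complete intersection and the Jacobian locus
-/

set_option autoImplicit false
universe u

open CategoryTheory Limits AlgebraicGeometry TopologicalSpace Opposite

namespace Groth.Agent.FittSheaf

variable {Y X : Scheme.{u}} (f : Y ⟶ X) [LocallyOfFinitePresentation f] [QuasiSeparated f]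

theorem smooth_iff_notMem_support_of_lci (m : ℕ) {U : Y.Opens} {P : Scheme.{u}} (i : (U : Scheme.{u}) ⟶ P)
    (π : P ⟶ X) (c : ℕ) (y : Y) (hyU : y ∈ U)
    (hi : RegImm.IsRegularImmersionOfCodim RegImm.Kind.koszul c i) [SmoothOfRelativeDimension (m + c) π]
    (heq : i ≫ π = U.ι ≫ f) :
    (∃ V : Y.Opens, y ∈ V ∧ Smooth (V.ι ≫ f)) ↔ y ∉ (Fitt.sheafIdeal (Omega.sheaf f) m).support := by
  obtain ⟨himm, hloc⟩ := hi
  haveI := himm
  let u : U := ⟨y, hyU⟩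
  obtain ⟨W₀, hu₀, hcl, rs, hlen, hrs, hker⟩ := hloc u
  haveI := hcl
  obtain ⟨V, hV, W', hW', hu', e', hstd'⟩ :=
    SmoothOfRelativeDimension.exists_isStandardSmoothOfRelativeDimension (n := m + c) (f := π) (i u)
  obtain ⟨a, ha, hua⟩ := hW'.exists_basicOpen_le ⟨i u, hu₀⟩ hu'
  let W : P.Opens := P.basicOpen a
  have hW : IsAffineOpen W := hW'.basicOpen a
  have eW : W ≤ π ⁻¹ᵁ V := (P.basicOpen_le a).trans e'
  have hstd : RingHom.IsStandardSmoothOfRelativeDimension (m + c) (π.appLE V W eW).hom := by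
    rw [← π.appLE_map e' (homOfLE (P.basicOpen_le a)).op, CommRingCat.hom_comp]
    haveI := hW'.isLocalization_basicOpen a
    exact (RingHom.isStandardSmoothOfRelativeDimension_stableUnderCompositionWithLocalizationAway (m + c)).2
      Γ(P, P.basicOpen a) a _ hstd'
  obtain ⟨hclW, rs', hlen', hrs', hker'⟩ := Groth.Agent.RegSeq.restrict_koszul i W₀.2 hW ha hrs hker
  haveI := hclW
  obtain ⟨hU₁, hsurj⟩ := PerfMor.surjective_app_of_restrict i hW
  let U₁ : (U : Scheme.{u}).Opens := i ⁻¹ᵁ W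
  have hU₂ : IsAffineOpen (U.ι ''ᵁ U₁) := hU₁.image_of_isOpenImmersion U.ι
  have e₁ : U₁ ≤ (i ≫ π) ⁻¹ᵁ V := fun z hz => eW hz
  have h₂ : U.ι ''ᵁ U₁ ≤ f ⁻¹ᵁ V := by
    rintro _ ⟨z, hz, rfl⟩
    have := e₁ hz
    rw [heq] at this
    exact this
  have hy₂ : y ∈ U.ι ''ᵁ U₁ := ⟨u, hua, rfl⟩
  rw [mem_support_omega_iff' f m hU₂ hV h₂ hy₂, FibrewiseCrit.exists_nhd_smooth_iff,
    Scheme.Hom.mem_smoothLocus, formallySmooth_stalkMap_iff V hV (U.ι ''ᵁ U₁) hU₂ h₂ hy₂]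
  letI := (f.appLE V (U.ι ''ᵁ U₁) h₂).hom.toAlgebra
  letI := (π.appLE V W eW).hom.toAlgebra
  haveI : Algebra.IsStandardSmoothOfRelativeDimension (m + c) Γ(X, V) Γ(P, W) := hstd
  haveI : Algebra.IsStandardSmooth Γ(X, V) Γ(P, W) :=
    Algebra.IsStandardSmoothOfRelativeDimension.isStandardSmooth (m + c)
  let φ : Γ(P, W) →+* Γ(Y, U.ι ''ᵁ U₁) := (i.app W ≫ (U.ι.appIso U₁).inv).hom
  have hφs : Function.Surjective φ :=
    (U.ι.appIso U₁).commRingCatIsoToRingEquiv.symm.surjective.comp hsurj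
  have hφc : ∀ a, φ (algebraMap Γ(X, V) Γ(P, W) a) = algebraMap Γ(X, V) Γ(Y, U.ι ''ᵁ U₁) a := by
    intro a
    have hc : π.appLE V W eW ≫ i.app W ≫ (U.ι.appIso U₁).inv = f.appLE V (U.ι ''ᵁ U₁) h₂ := by
      rw [← Category.assoc, Iso.comp_inv_eq, Scheme.Hom.app_eq_appLE, Scheme.Hom.appLE_comp_appLE,
        Scheme.Hom.appIso_hom', Scheme.Hom.appLE_comp_appLE]
      congr 1
    exact congrArg (fun t : Γ(X, V) ⟶ Γ(Y, U.ι ''ᵁ U₁) => t a) hc
  letI := φ.toAlgebra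
  haveI : IsScalarTower Γ(X, V) Γ(P, W) Γ(Y, U.ι ''ᵁ U₁) := IsScalarTower.of_algebraMap_eq fun a => (hφc a).symm
  have hlc : rs'.length = c := hlen'.trans hlen
  let r : Fin rs'.length → Γ(P, W) := rs'.get
  have hk : RingHom.ker (algebraMap Γ(P, W) Γ(Y, U.ι ''ᵁ U₁)) = Ideal.span (Set.range r) := by
    rw [Set.range_list_get]
    show RingHom.ker φ = Ideal.ofList rs'
    rw [← hker']
    ext x
    exact map_eq_zero_iff _ (U.ι.appIso U₁).commRingCatIsoToRingEquiv.symm.injective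
  have hq : CAlgX.IsQuasiRegular r :=
    Groth.Agent.RegSeq.seq_quasi_of_h1 (Groth.Agent.RegSeq.seq_h1_of_koszul hrs')
  haveI : Nonempty W := ⟨⟨_, hua⟩⟩
  haveI : Nontrivial Γ(P, W) := Scheme.component_nontrivial P W
  haveI := Algebra.IsStandardSmooth.free_kaehlerDifferential (R := Γ(X, V)) (S := Γ(P, W))
  let bas : Module.Basis (Fin (m + c)) Γ(P, W) (Ω[Γ(P, W)⁄Γ(X, V)]) :=
    Module.finBasisOfFinrankEq _ _ (Module.finrank_eq_of_rank_eq
      (Algebra.IsStandardSmoothOfRelativeDimension.rank_kaehlerDifferential (m + c)))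
  haveI : Algebra.FinitePresentation Γ(X, V) Γ(Y, U.ι ''ᵁ U₁) := f.finitePresentation_appLE hV hU₂ h₂
  haveI : Module.Finite Γ(Y, U.ι ''ᵁ U₁) (Ω[Γ(Y, U.ι ''ᵁ U₁)⁄Γ(X, V)]) := inferInstance
  have key := FittLci.finrank_add_le_iff bas hφs r hk hq (hU₂.primeIdealOf ⟨y, hy₂⟩).asIdeal
  rw [hlc, Nat.add_le_add_iff_right] at key
  rw [Groth.Agent.FittRank.not_le_iff_finrank_le, key]
  haveI : Module.Finite Γ(P, W) (RingHom.ker (algebraMap Γ(P, W) Γ(Y, U.ι ''ᵁ U₁))).Cotangent := by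
    haveI : Module.Finite Γ(P, W) (RingHom.ker (algebraMap Γ(P, W) Γ(Y, U.ι ''ᵁ U₁))) :=
      Module.Finite.iff_fg.2 (by rw [hk]; classical exact ⟨(Finset.univ.image r), by simp⟩)
    exact Module.Finite.of_surjective _ (Ideal.toCotangent_surjective _)
  constructor
  · intro hs
    haveI : Algebra.FormallySmooth Γ(X, V) (Localization.AtPrime (hU₂.primeIdealOf ⟨y, hy₂⟩).asIdeal) := hs
    exact Groth.Agent.PP16Lib.injective_of_formallySmooth_atPrime hφs _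
  · intro hinj
    obtain ⟨-, -, -, hs⟩ := Groth.Agent.PP16Lib.exists_away_of_injective hφs _ hinj
    exact hs

end Groth.Agent.FittSheaf
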