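import Groth.Prelude.Def_FlatMod2
import Groth.Agent.FittSheaf.Basic
import Groth.Agent.FittRank.Basic
import Groth.Agent.HopfFF.FitProj
import Groth.Agent.FlatDescent.FibreFlat.Rank
import Groth.Agent.LocFreeAnn.Free
import Groth.Agent.DCohPerf.FlatFP

/-!
# Fitting ideal sheaves and finite local freeness
-/

set_option autoImplicit false
set_option linter.style.haveILetI false
universe u

open CategoryTheory AlgebraicGeometry TopologicalSpace

namespace Groth.Agent.FittSheaf

variable {S : Scheme.{u}} (F : S.Modules) [F.IsQuasicoherent]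

theorem ideal_of_free (hft : CohB1.IsFT F) {U : S.Opens} {r : ℕ} (e : F.restrict U.ι ≅ FlatMod.freeMod (↑U) r)
    (V : S.affineOpens) (hVU : V.1 ≤ U) (k : ℕ) :
    (k < r → (Fitt.sheafIdeal F k).ideal V = ⊥) ∧ (r ≤ k → (Fitt.sheafIdeal F k).ideal V = ⊤) := by
  haveI := finite_sections F hft V
  obtain ⟨b, hb⟩ := Groth.Agent.LocFreeAnn.exists_basis e
  let x : Fin r → Γ(F, V.1) := fun i => F.presheaf.map (homOfLE hVU).op (b i)
  let l : (Fin r → Γ(S, V.1)) →ₗ[Γ(S, V.1)] Γ(F, V.1) := Fintype.linearCombination Γ(S, V.1) x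
  have hl : Function.Bijective l := hb V.1 hVU
  let B : Module.Basis (Fin r) Γ(S, V.1) Γ(F, V.1) := Module.Basis.ofEquivFun (LinearEquiv.ofBijective l hl).symm
  rw [sheafIdeal_ideal F hft]
  exact Groth.Agent.FittRank.ideal_of_basis B k

theorem isFinLocFreeOfRank_iff (hft : CohB1.IsFT F) (r : ℕ) :
    FlatMod.IsFinLocFreeOfRank r F ↔
      (∀ k : ℕ, k < r → Fitt.sheafIdeal F k = ⊥) ∧ (∀ k : ℕ, r ≤ k → Fitt.sheafIdeal F k = ⊤) := by
  constructor
  · intro h
    choose U hU e using h
    have hV : ∀ s : S, ∃ V : S.affineOpens, s ∈ V.1 ∧ V.1 ≤ U s := fun s => by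
      obtain ⟨V, hV, hs, hle⟩ := exists_isAffineOpen_mem_and_subset (x := s) (U := U s) (hU s)
      exact ⟨⟨V, hV⟩, hs, hle⟩
    choose V hsV hVU using hV
    have htop : (⨆ s, (V s).1) = ⊤ := eq_top_iff.mpr fun s _ => Opens.mem_iSup.mpr ⟨s, hsV s⟩
    refine ⟨fun k hk => ?_, fun k hk => ?_⟩
    · refine Scheme.IdealSheafData.ext_of_iSup_eq_top V htop fun s => ?_
      rw [Scheme.IdealSheafData.ideal_bot, Pi.bot_apply]
      exact (ideal_of_free F hft (e s).some (V s) (hVU s) k).1 hk
    · refine Scheme.IdealSheafData.ext_of_iSup_eq_top V htop fun s => ?_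
      rw [Scheme.IdealSheafData.ideal_top, Pi.top_apply]
      exact (ideal_of_free F hft (e s).some (V s) (hVU s) k).2 hk
  · rintro ⟨h1, h2⟩
    have hproj : ∀ W : S.affineOpens, Module.Projective Γ(S, W.1) Γ(F, W.1) := fun W => by
      haveI := finite_sections F hft W
      obtain ⟨n, x, hx⟩ := Module.Finite.exists_fin (R := Γ(S, W.1)) (M := Γ(F, W.1))
      refine Groth.Agent.HopfFF.projective_of_fitting x hx r ?_ fun s hs => ?_
      · rw [← sheafIdeal_ideal F hft, h2 r le_rfl, Scheme.IdealSheafData.ideal_top, Pi.top_apply]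
      · rw [← sheafIdeal_ideal F hft, h1 s hs, Scheme.IdealSheafData.ideal_bot, Pi.bot_apply]
    have hfp : CohB1.IsFP F := (Groth.Agent.QCohLib.isFinitePresentation_iff_affine F).2 fun W => by
      haveI := finite_sections F hft W
      haveI := hproj W
      exact Module.finitePresentation_of_projective _ _
    have hflat : FlatMod.IsFlat F := fun s => by
      obtain ⟨U, hU, hs, -⟩ := exists_isAffineOpen_mem_and_subset (x := s) (U := ⊤) (by trivial)
      haveI := hproj ⟨U, hU⟩
      letI := S.presheaf.algebra_section_stalk (U := U) ⟨s, hs⟩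
      haveI := hU.isLocalization_stalk ⟨s, hs⟩
      letI := Groth.Agent.QCohLib.germModule F s hs
      haveI : IsScalarTower Γ(S, U) (S.presheaf.stalk s) (F.presheaf.stalk s) :=
        IsScalarTower.of_algebraMap_smul fun _ _ => rfl
      haveI := Groth.Agent.QCohLib.isLocalizedModule_germ (M := F) hU s hs
      exact Module.Flat.isBaseChange Γ(S, U) (S.presheaf.stalk s) Γ(F, U) (F.presheaf.stalk s)
        (IsLocalizedModule.isBaseChange (hU.primeIdealOf ⟨s, hs⟩).asIdeal.primeCompl (S.presheaf.stalk s)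
          (Groth.Agent.QCohLib.germLinearMap F s hs))
    intro s
    obtain ⟨U, m, hs, ⟨e⟩⟩ := Groth.Agent.DCohPerf.isFinLocFree_of_isFP_flat hfp hflat s
    obtain ⟨V, hV, hsV, hle⟩ := exists_isAffineOpen_mem_and_subset (x := s) (U := U) hs
    haveI : Nonempty V := ⟨⟨s, hsV⟩⟩
    haveI : Nontrivial Γ(S, V) := inferInstance
    have hmr : m = r := by
      rcases lt_trichotomy m r with h | h | h
      · have a := (ideal_of_free F hft e ⟨V, hV⟩ hle m).2 le_rfl
        rw [h1 m h, Scheme.IdealSheafData.ideal_bot, Pi.bot_apply] at a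
        exact absurd a bot_ne_top
      · exact h
      · have a := (ideal_of_free F hft e ⟨V, hV⟩ hle r).1 h
        rw [h2 r le_rfl, Scheme.IdealSheafData.ideal_top, Pi.top_apply] at a
        exact absurd a top_ne_bot
    exact ⟨U, hs, hmr ▸ ⟨e⟩⟩

end Groth.Agent.FittSheaf
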