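import Groth.Agent.FittSheaf.Basic
import Groth.Agent.ConormalSection.ToSect
import Groth.Agent.ConormalSection.OmegaAffine
import Groth.Agent.RelFPLib.PullTensor
import Groth.Agent.IdealComap.Basic
import Groth.Agent.QCohLib.Pullback

/-!
# Fitting ideals of pullbacks and of the sheaf of differentials
-/

set_option autoImplicit false
universe u

open CategoryTheory Limits AlgebraicGeometry TopologicalSpace Opposite
open scoped TensorProduct

namespace Groth.Agent.FittSheaf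

theorem exists_affine_pair {X Y : Scheme.{u}} (f : X ⟶ Y) (x : X) :
    ∃ (V : Y.affineOpens) (U : X.affineOpens), x ∈ U.1 ∧ U.1 ≤ f ⁻¹ᵁ V.1 := by
  obtain ⟨V, hV, hxV, -⟩ := exists_isAffineOpen_mem_and_subset (x := f x) (U := (⊤ : Y.Opens)) trivial
  obtain ⟨U, hU, hxU, h⟩ := exists_isAffineOpen_mem_and_subset (x := x) (U := f ⁻¹ᵁ V) hxV
  exact ⟨⟨V, hV⟩, ⟨U, hU⟩, hxU, h⟩

theorem fitt_comap {T S : Scheme.{u}} (f : T ⟶ S) (F : S.Modules) [F.IsQuasicoherent] (hft : CohB1.IsFT F)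
    (i : ℕ) :
    (Fitt.sheafIdeal F i).comap f = Fitt.sheafIdeal ((Scheme.Modules.pullback f).obj F) i := by
  haveI hqc : ((Scheme.Modules.pullback f).obj F).IsQuasicoherent := QCohLib.isQuasicoherent_pullback _ _
  have hft' : CohB1.IsFT ((Scheme.Modules.pullback f).obj F) := QCohLib.isFiniteType_pullback _ _ hft
  choose V U hxU hle using fun x : T => exists_affine_pair f x
  refine Scheme.IdealSheafData.ext_of_iSup_eq_top U (eq_top_iff.2 fun x _ => Opens.mem_iSup.2 ⟨x, hxU x⟩) fun x => ?_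
  rw [Groth.Agent.IdealComap.ideal_comap (Fitt.sheafIdeal F i) f (U x) (V x) (hle x), sheafIdeal_ideal F hft,
    sheafIdeal_ideal _ hft']
  letI := (f.appLE (V x).1 (U x).1 (hle x)).hom.toAlgebra
  haveI := finite_sections F hft (V x)
  obtain ⟨e, -⟩ := RelFPLib.exists_pullTensorEquiv f F (V x).2 (U x).2 (hle x)
  rw [← FittMor.ideal_congr e i, Groth.Agent.S6890.result (R := Γ(S, (V x).1)) (R' := Γ(T, (U x).1))]
  rfl

variable {X S : Scheme.{u}} (f : X ⟶ S) [QuasiSeparated f]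

theorem exists_omega_equiv {U : X.Opens} {V : S.Opens} (hU : IsAffineOpen U) (hV : IsAffineOpen V)
    (h : U ≤ f ⁻¹ᵁ V) :
    letI := (f.appLE V U h).hom.toAlgebra
    Nonempty (Ω[Γ(X, U)⁄Γ(S, V)] ≃ₗ[Γ(X, U)] Γ(Omega.sheaf f, U)) :=
  letI := (f.appLE V U h).hom.toAlgebra
  ⟨LinearEquiv.ofBijective (OmAff.toSect f V U h).hom (ConormalSection.bijective_toSect f hU hV h)⟩

theorem finite_omega [LocallyOfFiniteType f] {U : X.Opens} {V : S.Opens} (hU : IsAffineOpen U)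
    (hV : IsAffineOpen V) (h : U ≤ f ⁻¹ᵁ V) : Module.Finite Γ(X, U) Γ(Omega.sheaf f, U) := by
  letI := (f.appLE V U h).hom.toAlgebra
  haveI : Algebra.FiniteType Γ(S, V) Γ(X, U) := f.finiteType_appLE hV hU h
  obtain ⟨e⟩ := exists_omega_equiv f hU hV h
  exact Module.Finite.equiv e

theorem isFiniteType_omega [LocallyOfFiniteType f] : CohB1.IsFT (Omega.sheaf f) := by
  haveI := ConormalSection.omega_isQuasicoherent f
  choose V U hxU hle using fun x : X => exists_affine_pair f x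
  exact QCohLib.isFiniteType_of_affine_cover (Omega.sheaf f) U
    (fun x => ⟨x, hxU x⟩) (fun x => finite_omega f (U x).2 (V x).2 (hle x))

theorem fitt_omega_comap {S' : Scheme.{u}} (g : S' ⟶ S) [LocallyOfFiniteType f] (i : ℕ) :
    (Fitt.sheafIdeal (Omega.sheaf f) i).comap (pullback.fst f g) =
      Fitt.sheafIdeal (Omega.sheaf (pullback.snd f g)) i := by
  let p := pullback.fst f g
  let q := pullback.snd f g
  haveI := ConormalSection.omega_isQuasicoherent f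
  haveI := ConormalSection.omega_isQuasicoherent q
  have key : ∀ z : ↑(pullback f g), ∃ (U'' : (pullback f g).affineOpens) (U : X.affineOpens) (V : S'.affineOpens)
      (W : S.affineOpens) (hUW : U.1 ≤ f ⁻¹ᵁ W.1) (hVW : V.1 ≤ g ⁻¹ᵁ W.1),
      z ∈ U''.1 ∧ U''.1 = p ⁻¹ᵁ U.1 ⊓ q ⁻¹ᵁ V.1 := by
    intro z
    obtain ⟨W, hW, hzW, -⟩ := exists_isAffineOpen_mem_and_subset (x := f (p z)) (U := (⊤ : S.Opens)) trivial
    obtain ⟨U, hU, hzU, hUW⟩ := exists_isAffineOpen_mem_and_subset (x := p z) (U := f ⁻¹ᵁ W) hzW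
    have hzW' : g (q z) ∈ W := by
      have := congrArg (fun t : pullback f g ⟶ S => t z) (pullback.condition (f := f) (g := g))
      exact this ▸ hzW
    obtain ⟨V, hV, hzV, hVW⟩ := exists_isAffineOpen_mem_and_subset (x := q z) (U := g ⁻¹ᵁ W) hzW'
    have hA : IsAffineOpen (p ⁻¹ᵁ U ⊓ q ⁻¹ᵁ V) := by
      have : IsAffine U := hU
      have : IsAffine V := hV
      have : IsAffine W := hW
      exact .of_isIso (Scheme.Hom.isPullback_resLE (IsPullback.of_hasPullback f g) hVW hUW rfl).isoPullback.hom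
    exact ⟨⟨_, hA⟩, ⟨U, hU⟩, ⟨V, hV⟩, ⟨W, hW⟩, hUW, hVW, ⟨hzU, hzV⟩, rfl⟩
  choose U'' U V W hUW hVW hz heq using key
  refine Scheme.IdealSheafData.ext_of_iSup_eq_top U'' (eq_top_iff.2 fun x _ => Opens.mem_iSup.2 ⟨x, hz x⟩) fun z => ?_
  have hp : (U'' z).1 ≤ p ⁻¹ᵁ (U z).1 := (heq z).le.trans inf_le_left
  have hq : (U'' z).1 ≤ q ⁻¹ᵁ (V z).1 := (heq z).le.trans inf_le_right
  rw [Groth.Agent.IdealComap.ideal_comap (Fitt.sheafIdeal (Omega.sheaf f) i) p (U'' z) (U z) hp,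
    sheafIdeal_ideal _ (isFiniteType_omega f), sheafIdeal_ideal _ (isFiniteType_omega q)]
  have hpb : IsPullback p q f g := IsPullback.of_hasPullback f g
  have hpush : CategoryTheory.IsPushout (g.appLE (W z).1 (V z).1 (hVW z)) (f.appLE (W z).1 (U z).1 (hUW z))
      (q.appLE (V z).1 (U'' z).1 hq) (p.appLE (U z).1 (U'' z).1 hp) :=
    ((isIso_pushoutSection_iff hpb (hVW z) (hUW z) (heq z)).1
      (isIso_pushoutSection_of_isAffineOpen hpb (hVW z) (hUW z) (heq z) (W z).2 (V z).2 (U z).2)).flip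
  letI aAB : Algebra Γ(S, (W z).1) Γ(X, (U z).1) := (f.appLE (W z).1 (U z).1 (hUW z)).hom.toAlgebra
  letI aAA : Algebra Γ(S, (W z).1) Γ(S', (V z).1) := (g.appLE (W z).1 (V z).1 (hVW z)).hom.toAlgebra
  letI aBC : Algebra Γ(X, (U z).1) Γ(pullback f g, (U'' z).1) := (p.appLE (U z).1 (U'' z).1 hp).hom.toAlgebra
  letI aA'C : Algebra Γ(S', (V z).1) Γ(pullback f g, (U'' z).1) := (q.appLE (V z).1 (U'' z).1 hq).hom.toAlgebra
  letI aAC : Algebra Γ(S, (W z).1) Γ(pullback f g, (U'' z).1) :=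
    (f.appLE (W z).1 (U z).1 (hUW z) ≫ p.appLE (U z).1 (U'' z).1 hp).hom.toAlgebra
  haveI : IsScalarTower Γ(S, (W z).1) Γ(X, (U z).1) Γ(pullback f g, (U'' z).1) := IsScalarTower.of_algebraMap_eq' rfl
  haveI : IsScalarTower Γ(S, (W z).1) Γ(S', (V z).1) Γ(pullback f g, (U'' z).1) :=
    IsScalarTower.of_algebraMap_eq' (congrArg CommRingCat.Hom.hom hpush.w).symm
  haveI : Algebra.IsPushout Γ(S, (W z).1) Γ(S', (V z).1) Γ(X, (U z).1) Γ(pullback f g, (U'' z).1) :=
    CommRingCat.isPushout_iff_isPushout.1 hpush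
  obtain ⟨e₁⟩ := exists_omega_equiv f (U z).2 (W z).2 (hUW z)
  obtain ⟨e₂⟩ := exists_omega_equiv q (U'' z).2 (V z).2 hq
  haveI := finite_omega f (U z).2 (W z).2 (hUW z)
  haveI : Module.Finite Γ(X, (U z).1) (Ω[Γ(X, (U z).1)⁄Γ(S, (W z).1)]) := Module.Finite.equiv e₁.symm
  let e : Γ(pullback f g, (U'' z).1) ⊗[Γ(X, (U z).1)] Γ(Omega.sheaf f, (U z).1) ≃ₗ[Γ(pullback f g, (U'' z).1)]
      Γ(Omega.sheaf q, (U'' z).1) :=
    TensorProduct.AlgebraTensorModule.congr (LinearEquiv.refl _ _) e₁.symm ≪≫ₗ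
      KaehlerDifferential.tensorKaehlerEquiv Γ(S, (W z).1) Γ(S', (V z).1) Γ(X, (U z).1)
        Γ(pullback f g, (U'' z).1) ≪≫ₗ e₂
  rw [← FittMor.ideal_congr e i, Groth.Agent.S6890.result (R := Γ(X, (U z).1)) (R' := Γ(pullback f g, (U'' z).1))]
  rfl

theorem mem_support_omega_iff [LocallyOfFiniteType f] (x : X) :
    x ∈ (Fitt.sheafIdeal (Omega.sheaf f) 0).support ↔
      ¬ ∃ U : X.Opens, x ∈ U ∧ FormallyUnramified (U.ι ≫ f) := by
  haveI := ConormalSection.omega_isQuasicoherent f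
  let Z := (Fitt.sheafIdeal (Omega.sheaf f) 0).support
  have hZ : ∀ y, y ∈ Z ↔ ¬ Subsingleton ((Omega.sheaf f).presheaf.stalk y) := fun y =>
    Set.ext_iff.1 (support_zero (Omega.sheaf f) (isFiniteType_omega f)) y
  have hiso : ∀ (U : X.Opens) (u : U), Subsingleton ((Omega.sheaf f).presheaf.stalk (U.ι u)) ↔
      Subsingleton ((Omega.sheaf (U.ι ≫ f)).presheaf.stalk u) := fun U u => by
    rw [ConormalSection.subsingleton_stalk_omega_iff_stalkMap, ConormalSection.subsingleton_stalk_omega_iff_stalkMap,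
      Scheme.Hom.stalkMap_comp]
    exact (RingHom.FormallyUnramified.respectsIso.cancel_right_isIso _ (U.ι.stalkMap u)).symm
  constructor
  · rintro hx ⟨U, hxU, hU⟩
    exact (hZ x).1 hx ((hiso U ⟨x, hxU⟩).2 (QCohLib.subsingleton_stalk_of_isZero
      ((ConormalSection.isZero_omega_iff (U.ι ≫ f)).2 hU) _))
  · intro h
    by_contra hx
    let C : X.Opens := Z.compl
    refine h ⟨C, hx, ?_⟩
    refine (ConormalSection.isZero_omega_iff _).1 ?_
    haveI := ConormalSection.omega_isQuasicoherent (C.ι ≫ f)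
    refine QCohLib.isZero_of_subsingleton_stalk fun u => ?_
    exact (hiso C u).1 (not_not.1 fun hn => u.2 ((hZ _).2 hn))

end Groth.Agent.FittSheaf
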