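import Groth.Agent.FittSheaf.EmbedScheme
import Groth.Agent.LocalDim.Closure
import Groth.Agent.FibDim.MaxPoints
import Groth.Agent.FibDim.Scheme
import Groth.Agent.ConnDiv.Normality
import Groth.Agent.GeomUnib.SectionRestrict
import Groth.Agent.FibrewiseCrit.Pointwise
import Groth.Agent.SmoothFibreDim.Basic

/-!
# The `d`-th Jacobian locus of a flat morphism of relative dimension `d`
-/

set_option autoImplicit false
universe u

open CategoryTheory Limits AlgebraicGeometry TopologicalSpace Opposite

namespace Groth.Agent.FittSheaf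

theorem localDim_eq_of_components {L : Type u} [Field L] {Z : Scheme.{u}} (f : Z ⟶ Spec (CommRingCat.of L))
    [LocallyOfFiniteType f] (d : ℕ) (h : ∀ T ∈ irreducibleComponents ↥Z, topologicalKrullDim ↥T = d) (z : Z) :
    FlatMor.localDim Z z = d := by
  refine le_antisymm ?_ (le_iInf ?_)
  · refine (FibreDim.localDim_le isOpen_univ (Set.mem_univ z)).trans
      (Topology.IsInducing.subtypeVal.topologicalKrullDim_le.trans ?_)
    exact FibDim.topologicalKrullDim_le_of_max fun η hη => (h _ (FibDim.closure_mem_components hη)).le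
  · rintro ⟨U, hU⟩
    let U : Z.Opens := U
    obtain ⟨η, hη, hmax⟩ := FibDim.exists_isMax'_specializes z
    have hηU : η ∈ U := hη.mem_open U.2 hU
    rw [← h _ (FibDim.closure_mem_components hmax)]
    refine le_of_eq_of_le (FibDim.dim_closure_openImmersion (Scheme.Opens.ι U) f ⟨η, hηU⟩) ?_
    exact Topology.IsInducing.subtypeVal.topologicalKrullDim_le

theorem injective_of_surjective_of_dim {R S : Type u} [CommRing R] [IsDomain R] [CommRing S]
    (φ : R →+* S) (hφ : Function.Surjective φ) (n : ℕ) (hR : ringKrullDim R = n) (hS : ringKrullDim S = n) :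
    Function.Injective φ := by
  refine (injective_iff_map_eq_zero φ).2 fun a ha => by_contra fun h0 => ?_
  have h1 : ringKrullDim S ≤ ringKrullDim (R ⧸ Ideal.span {a}) :=
    ringKrullDim_le_of_surjective (Ideal.Quotient.lift (Ideal.span {a}) φ
      (fun x hx => by obtain ⟨c, rfl⟩ := Ideal.mem_span_singleton'.1 hx; rw [map_mul, ha, mul_zero]))
      (Ideal.Quotient.lift_surjective_of_surjective _ _ hφ)
  have h2 := (add_le_add_left h1 1).trans (ringKrullDim_quotient_succ_le_of_nonZeroDivisor
    (mem_nonZeroDivisors_of_ne_zero h0))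
  rw [hR, hS] at h2
  norm_cast at h2
  omega

/-- A closed subscheme of a smooth scheme over a field with the same local dimension at a point agrees
with it there. -/
theorem mem_smoothLocus_closed {L : Type u} [Field L] {F G : Scheme.{u}} (h : F ⟶ G) [IsClosedImmersion h]
    (q : G ⟶ Spec (CommRingCat.of L)) [Smooth q] [LocallyOfFinitePresentation (h ≫ q)] (z : F) (d : ℕ)
    (hF : FlatMor.localDim F z = d) (hG : FlatMor.localDim G (h z) = d) : z ∈ (h ≫ q).smoothLocus := by
  obtain ⟨c, hc, hc'⟩ := DimTrdeg.exists_dim_closure_eq_trdeg q (h z)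
  rw [LocalDim.localDim_eq_stalk_add_closure (h ≫ q) z] at hF
  rw [LocalDim.localDim_eq_stalk_add_closure q (h z), hc'] at hG
  have hcl : topologicalKrullDim (closure ({z} : Set F)) = c := by
    rw [← FibreDim.dim_image h.isClosedEmbedding.isEmbedding, ← h.isClosedEmbedding.closure_image_eq,
      Set.image_singleton]
    exact hc'
  rw [hcl] at hF
  obtain ⟨a, ha⟩ : ∃ a : ℕ, ringKrullDim (G.presheaf.stalk (h z)) = a := by
    generalize ringKrullDim (G.presheaf.stalk (h z)) = D at hG
    induction D using WithBot.recBotCoe with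
    | bot => exact absurd hG (by simp)
    | coe D =>
      induction D using ENat.recTopCoe with
      | top => exact absurd hG (by exact ne_of_beq_false rfl)
      | coe D => exact ⟨D, rfl⟩
  obtain ⟨b, hb⟩ : ∃ b : ℕ, ringKrullDim (F.presheaf.stalk z) = b := by
    generalize ringKrullDim (F.presheaf.stalk z) = D at hF
    induction D using WithBot.recBotCoe with
    | bot => exact absurd hF (by simp)
    | coe D =>
      induction D using ENat.recTopCoe with
      | top => exact absurd hF (by exact ne_of_beq_false rfl)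
      | coe D => exact ⟨D, rfl⟩
  rw [ha] at hG
  rw [hb] at hF
  norm_cast at hG hF
  obtain rfl : b = a := by omega
  haveI := ConnDiv.isDomain_stalk_of_smooth q (h z)
  have hbij : Function.Bijective (h.stalkMap z).hom :=
    ⟨injective_of_surjective_of_dim _ (h.stalkMap_surjective z) b ha hb, h.stalkMap_surjective z⟩
  haveI : IsIso (h.stalkMap z) := (ConcreteCategory.isIso_iff_bijective _).2 hbij
  rw [Scheme.Hom.mem_smoothLocus, Scheme.Hom.stalkMap_comp]
  refine (RingHom.FormallySmooth.respectsIso.cancel_right_isIso _ (h.stalkMap z)).2 ?_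
  have : h z ∈ q.smoothLocus := by rw [Scheme.Hom.smoothLocus_eq_top]; trivial
  exact this

variable {U U' S : Scheme.{u}}

theorem mem_smoothLocus_comp_of_dim (i : U ⟶ U') [IsClosedImmersion i] (g : U' ⟶ S) (d : ℕ)
    [SmoothOfRelativeDimension d g] [Flat (i ≫ g)] [LocallyOfFinitePresentation (i ≫ g)] (u : U)
    (hdim : FlatMor.fibreDimAt (i ≫ g) u = d) : u ∈ (i ≫ g).smoothLocus := by
  let s := g (i u)
  let t := S.fromSpecResidueField s
  haveI : Smooth g := SmoothOfRelativeDimension.smooth d g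
  let e := pullbackRightPullbackFstIso g t i
  let h : (i ≫ g).fiber s ⟶ g.fiber s := e.inv ≫ pullback.snd i (pullback.fst g t)
  haveI : IsClosedImmersion (pullback.snd i (pullback.fst g t)) := MorphismProperty.pullback_snd _ _ ‹_›
  haveI : IsClosedImmersion h := inferInstanceAs (IsClosedImmersion (e.inv ≫ pullback.snd i (pullback.fst g t)))
  have hq : h ≫ g.fiberToSpecResidueField s = (i ≫ g).fiberToSpecResidueField s := by
    show (e.inv ≫ pullback.snd i (pullback.fst g t)) ≫ pullback.snd g t = pullback.snd (i ≫ g) t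
    simp [e]
  have hι : h ≫ g.fiberι s = (i ≫ g).fiberι s ≫ i := by
    show (e.inv ≫ pullback.snd i (pullback.fst g t)) ≫ pullback.fst g t = pullback.fst (i ≫ g) t ≫ i
    simp [e, ← pullback.condition]
  haveI hsm : Smooth (g.fiberToSpecResidueField (g (i u))) := MorphismProperty.pullback_snd _ _ ‹_›
  haveI : LocallyOfFinitePresentation ((i ≫ g).fiberToSpecResidueField s) :=
    MorphismProperty.pullback_snd _ _ ‹_›
  have hlfp : LocallyOfFinitePresentation (h ≫ g.fiberToSpecResidueField s) := by rw [hq]; assumption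
  let z := (i ≫ g).asFiber u
  have hz : h z = g.asFiber (i u) := by
    refine (g.fiberι (g (i u))).isEmbedding.injective ?_
    rw [g.fiberι_asFiber]
    have := congrArg (fun k : (i ≫ g).fiber s ⟶ U' => k z) hι
    simp only [Scheme.Hom.comp_apply] at this
    exact this.trans (congrArg i ((i ≫ g).fiberι_asFiber u))
  have hzs := @mem_smoothLocus_closed _ _ _ _ h _ (g.fiberToSpecResidueField s) hsm hlfp z d hdim
    (by rw [hz]; exact SmoothFibreDim.fibreDimAt_eq g d (i u))
  refine (FibrewiseCrit.mem_smoothLocus_iff_flat_and_fibre (i ≫ g) u).2 ⟨?_, ?_⟩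
  · exact Flat.stalkMap (i ≫ g) u
  · have key : ∀ {F : Scheme.{u}} {K : Scheme.{u}} (a b : F ⟶ K) [LocallyOfFinitePresentation a]
        [LocallyOfFinitePresentation b], a = b → ∀ w, w ∈ a.smoothLocus → w ∈ b.smoothLocus := by
      intro F K a b _ _ e w hw; subst e; exact hw
    exact @key _ _ _ _ hlfp _ hq _ hzs

theorem notMem_support_iff_smooth {X : Scheme.{u}} (f : X ⟶ S) [Flat f] [LocallyOfFinitePresentation f]
    [QuasiSeparated f] (d : ℕ)
    (hdim : ∀ s : ↥S, ∀ T ∈ irreducibleComponents ↥(f.fiber s), topologicalKrullDim ↥T = d) (x : X) :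
    x ∈ (Fitt.sheafIdeal (Omega.sheaf f) d).support ↔ ¬ ∃ U : X.Opens, x ∈ U ∧ Smooth (U.ι ≫ f) := by
  have hfd : ∀ y, FlatMor.fibreDimAt f y = d := fun y => by
    have hlft : LocallyOfFiniteType (f.fiberToSpecResidueField (f y)) :=
      MorphismProperty.pullback_snd _ _ (inferInstance : LocallyOfFiniteType f)
    exact @localDim_eq_of_components _ _ _ (f.fiberToSpecResidueField (f y)) hlft d (hdim (f y)) (f.asFiber y)
  constructor
  · rintro hx ⟨U, hxU, hU⟩
    obtain ⟨V, hV, W, hW, hxW, e, hstd⟩ := Smooth.exists_isStandardSmooth (U.ι ≫ f) ⟨x, hxU⟩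
    letI := ((U.ι ≫ f).appLE V W e).hom.toAlgebra
    haveI hstd' : Algebra.IsStandardSmooth Γ(S, V) Γ(U, W) := hstd
    obtain ⟨ι, σ, _, _, ⟨P⟩⟩ := hstd'.out
    let n := P.dimension
    haveI hn : Algebra.IsStandardSmoothOfRelativeDimension n Γ(S, V) Γ(U, W) :=
      P.isStandardSmoothOfRelativeDimension rfl
    haveI : SmoothOfRelativeDimension n (W.ι ≫ U.ι ≫ f) := by
      haveI : IsAffine (W : Scheme.{u}) := hW
      refine ⟨fun w => ⟨V, hV, ⊤, isAffineOpen_top _, trivial, ?_, ?_⟩⟩
      · intro z _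
        exact e z.2
      · rw [← Scheme.Hom.appLE_comp_appLE W.ι (U.ι ≫ f) V W ⊤ e (by simp)]
        exact (RingHom.isStandardSmoothOfRelativeDimension_respectsIso (n := n)).1 _
          (asIso (W.ι.appLE W ⊤ _)).commRingCatIsoToRingEquiv hn
    have hn' := SmoothFibreDim.fibreDimAt_eq (W.ι ≫ U.ι ≫ f) n ⟨⟨x, hxU⟩, hxW⟩
    rw [GeomUnib.SectionBC.fibreDimAt_restrict (f := f) (f' := W.ι ≫ U.ι ≫ f) (j := W.ι ≫ U.ι) (i := 𝟙 S)
      (by simp), hfd] at hn'
    
    obtain rfl : d = n := by exact_mod_cast hn'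
    let U₁ : X.Opens := U.ι ''ᵁ W
    refine notMem_support_of_embedding f n x (U := U₁)
      ((U.ι.isoImage W).inv) (W.ι ≫ U.ι ≫ f) ⟨⟨x, hxU⟩, hxW, rfl⟩ ?_ hx
    exact Scheme.Hom.isoImage_inv_ι_assoc _ _ _
  · intro h
    by_contra hx
    obtain ⟨U, U', i, g, hxU, hi, hg, heq⟩ := exists_embedding f d x hx
    haveI : Flat (i ≫ g) := heq ▸ inferInstance
    haveI : LocallyOfFinitePresentation (i ≫ g) := heq ▸ inferInstance
    have hd' : FlatMor.fibreDimAt (i ≫ g) ⟨x, hxU⟩ = d := by
      rw [GeomUnib.SectionBC.fibreDimAt_restrict (f := f) (f' := i ≫ g) (j := U.ι) (i := 𝟙 S)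
        (by rw [Category.comp_id, heq]), hfd]
    have hs := mem_smoothLocus_comp_of_dim i g d ⟨x, hxU⟩ hd'
    refine h ((FibrewiseCrit.exists_nhd_smooth_iff f x).2 ?_)
    have : (⟨x, hxU⟩ : U) ∈ (U.ι ≫ f).smoothLocus := by
      simp only [← heq]
      exact hs
    exact (FibrewiseCrit.mem_smoothLocus_comp_left U.ι f _).1 this

end Groth.Agent.FittSheaf
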